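import Groth.Agent.ResProp.EF.K737.N2L

/-!
# N2 (G1, team A): the closed relations, the value at the identity, the point over `x`
-/

set_option autoImplicit false
set_option linter.style.haveILetI false

open Groth.Agent.Grpsch.AffGrpd Groth.Agent.ResProp.EF.K412 TensorProduct Matrix

namespace Groth.Agent.ResProp.EF.K737

universe u

variable {A B : Type u} [CommRing A] [CommRing B] {G : RGrpd A B} {k : Type u} [Field k] {x : A →+* k} (X : Src G x)

/-- relations on all arrows with source `a` are killed by `Mb N` -/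
theorem rel_gen {ι : Type*} [Fintype ι] (v : ι → B) (d : RD k (fun j => X.j (v j))) {T : Type u} [CommRing T] (f : k →+* T)
    (a : A →+* T) (N : Matrix ι ι T)
    (hN : ∀ {T' : Type u} [CommRing T'] (φ : T →+* T') (δ : B →+* T'), δ.comp G.s = (φ.comp f).comp x →
      ∃ β : B →+* T', β.comp G.s = φ.comp a ∧ ∀ j, β (v j) = ∑ i, δ (v i) * φ (N i j))
    (y : ι → T)
    (H : ∀ {T' : Type u} [CommRing T'] (φ : T →+* T') (β : B →+* T'), β.comp G.s = φ.comp a →
      ∑ j, φ (y j) * β (v j) = 0) :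
    (d.Mb.map f * N) *ᵥ y = 0 := by
  funext b
  rw [← Matrix.mulVec_mulVec]
  refine ind X v d f (N *ᵥ y) (fun φ δ hδ => ?_) b
  obtain ⟨β, hβ, hβv⟩ := hN φ δ hδ
  rw [← H φ β hβ]
  simp only [hβv, Matrix.mulVec, dotProduct, map_sum, map_mul, Finset.sum_mul, Finset.mul_sum]
  rw [Finset.sum_comm]
  refine Finset.sum_congr rfl fun j _ => Finset.sum_congr rfl fun i _ => ?_
  ring

variable {Lb : Type u} [CommRing Lb] [Algebra Lb A] (D : Gen Lb G)

theorem map_mon {T : Type u} [CommRing T] (φ : B →+* T) (J : Fin D.m → Fin D.n) :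
    φ (mon D.c J) = monv D.m (φ ∘ D.c) J := by
  simp [mon, monv, map_prod]

/-- inverse of the identity -/
theorem e_comp_i (G : RGrpd A B) : G.e.comp G.i = G.e := by
  have h := G.comp_i G.e
  have h2 := G.e_comp (G.e.comp G.i)
  have ht : (G.e.comp G.i).comp G.t = RingHom.id A := by rw [RingHom.comp_assoc, G.i_t, G.e_s]
  have he : ((G.e.comp G.i).comp G.t).comp G.e = G.e := by rw [ht, RingHom.id_comp]
  have h3 : G.comp (((G.e.comp G.i).comp G.t).comp G.e) (G.e.comp G.i)
      (by rw [RingHom.comp_assoc, G.e_s, RingHom.comp_id]) = G.comp G.e (G.e.comp G.i)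
      (by rw [RingHom.comp_assoc, G.i_t]) := by congr 1
  rw [h3, h, G.e_t, RingHom.id_comp] at h2
  exact h2.symm

section

variable {r1 rm : ℕ} {T : Type u} [CommRing T] (c : Cone G x r1 rm T)

/-- the arrow `δ α^-1` -/
theorem cone_inv {T' : Type u} [CommRing T'] (φ : T →+* T') (δ : B →+* T')
    (h : δ.comp G.s = (φ.comp c.f).comp x) : δ.comp G.s = ((φ.comp c.α).comp G.i).comp G.t := by
  rw [h, RingHom.comp_assoc, RingHom.comp_assoc, RingHom.comp_assoc, G.i_t, c.h]

theorem hN1 {T' : Type u} [CommRing T'] (φ : T →+* T') (δ : B →+* T')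
    (h : δ.comp G.s = (φ.comp c.f).comp x) :
    (G.comp δ ((φ.comp c.α).comp G.i) (cone_inv c φ δ h)).comp G.s = φ.comp (c.α.comp G.t) ∧
      ∀ j, G.comp δ ((φ.comp c.α).comp G.i) (cone_inv c φ δ h) (D.c j) =
        ∑ i, δ (D.c i) * φ ((gi D).map c.α i j) := by
  refine ⟨?_, fun j => ?_⟩
  · rw [G.comp_s, RingHom.comp_assoc, G.i_s, RingHom.comp_assoc]
  · exact D.comp_c _ _ _ j

theorem hNm {T' : Type u} [CommRing T'] (φ : T →+* T') (δ : B →+* T')
    (h : δ.comp G.s = (φ.comp c.f).comp x) (J : Fin D.m → Fin D.n) :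
    G.comp δ ((φ.comp c.α).comp G.i) (cone_inv c φ δ h) (mon D.c J) =
        ∑ I, δ (mon D.c I) * φ (tpow D.m ((gi D).map c.α) I J) := by
  rw [map_mon]
  have h1 : (G.comp δ ((φ.comp c.α).comp G.i) (cone_inv c φ δ h) : B → T') ∘ D.c =
      (δ ∘ D.c) ᵥ* ((gi D).map c.α).map φ := by
    funext j
    exact (hN1 D c φ δ h).2 j
  rw [h1, monv_vecMul, tpow_map]
  refine Finset.sum_congr rfl fun I _ => ?_
  rw [map_mon]; rfl

end

section

variable {X D}
variable (d1 : RD k (fun j => X.j (D.c j))) (dm : RD k (fun J : Fin D.m → Fin D.n => X.j (mon D.c J)))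

/-- the coordinate matrices kill relations on arrows with source `a` -/
theorem rel1' {r1 rm : ℕ} {T : Type u} [CommRing T] (c : Cone G x r1 rm T) (y : Fin D.n → T)
    (H : ∀ {T' : Type u} [CommRing T'] (φ : T →+* T') (β : B →+* T'), β.comp G.s = φ.comp (c.α.comp G.t) →
      ∑ j, φ (y j) * β (D.c j) = 0) :
    (d1.Mb.map c.f * (gi D).map c.α) *ᵥ y = 0 :=
  rel_gen X (fun j => D.c j) d1 c.f (c.α.comp G.t) _ (fun φ δ h => ⟨_, hN1 D c φ δ h⟩) y H

theorem relm' {r1 rm : ℕ} {T : Type u} [CommRing T] (c : Cone G x r1 rm T) (y : (Fin D.m → Fin D.n) → T)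
    (H : ∀ {T' : Type u} [CommRing T'] (φ : T →+* T') (β : B →+* T'), β.comp G.s = φ.comp (c.α.comp G.t) →
      ∑ J, φ (y J) * β (mon D.c J) = 0) :
    (dm.Mb.map c.f * tpow D.m ((gi D).map c.α)) *ᵥ y = 0 :=
  rel_gen X (fun J => mon D.c J) dm c.f (c.α.comp G.t) _ (fun φ δ h => ⟨_, (hN1 D c φ δ h).1, hNm D c φ δ h⟩) y H

/-- `mubar Mbar^(x)m = Mmbar` -/
theorem mub : dm.Mb * tpow D.m (d1.S * d1.Mb) = dm.Mb := by
  classical
  let al : k →+* X.E := algebraMap k X.E
  have h0 : (fun j => X.j (D.c j)) ᵥ* (d1.S * d1.Mb).map al = fun j => X.j (D.c j) := by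
    funext j
    rw [Matrix.map_mul, ← Matrix.vecMul_vecMul]
    have hw : (fun j => X.j (D.c j)) ᵥ* d1.S.map al = d1.w := by
      funext b
      rw [d1.hw b]
      change ∑ i, X.j (D.c i) * al (d1.S i b) = _
      refine Finset.sum_congr rfl fun i _ => ?_
      rw [Algebra.smul_def, mul_comm]
    rw [hw]
    refine Eq.trans ?_ (d1.hv j).symm
    change ∑ i, d1.w i * al (d1.l i (X.j (D.c j))) = _
    refine Finset.sum_congr rfl fun i _ => ?_
    rw [Algebra.smul_def, mul_comm]
  ext b J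
  have h1 : ∑ I, tpow D.m (d1.S * d1.Mb) I J • X.j (mon D.c I) = X.j (mon D.c J) := by
    have h2 := congrFun (monv_vecMul D.m (fun j => X.j (D.c j)) ((d1.S * d1.Mb).map al)) J
    rw [h0, tpow_map] at h2
    rw [map_mon, show (X.j : B → X.E) ∘ D.c = fun j => X.j (D.c j) from rfl, h2]
    refine Finset.sum_congr rfl fun I _ => ?_
    rw [Algebra.smul_def, mul_comm, map_mon]; rfl
  have h3 := congrArg (dm.l b) h1
  rw [map_sum] at h3
  change ∑ I, dm.Mb b I * tpow D.m (d1.S * d1.Mb) I J = dm.l b (X.j (mon D.c J))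
  rw [← h3]
  refine Finset.sum_congr rfl fun I _ => ?_
  rw [map_smul, smul_eq_mul, mul_comm]; rfl

/-- **closed**: the relations hold at cone points -/
theorem closed_pt {T : Type u} [CommRing T] (c : Cone G x d1.r dm.r T) : IsFrC (c.pt d1 dm) where
  hmu := by
    have h : (c.pt d1 dm).Mm = (c.pt d1 dm).mu * tpow D.m (c.pt d1 dm).M := by
      change c.Xm * dm.Mb.map c.f * tpow D.m ((gi D).map c.α) =
        c.Xm * (dm.Mb * tpow D.m d1.S).map c.f * tpow D.m c.Xi * tpow D.m (c.X * d1.Mb.map c.f * (gi D).map c.α)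
      rw [Matrix.mul_assoc (c.Xm * (dm.Mb * tpow D.m d1.S).map c.f), ← tpow_mul, Matrix.mul_assoc c.X,
        ← Matrix.mul_assoc c.Xi, mul_eq_one_comm.1 c.hX, Matrix.one_mul, tpow_mul, ← Matrix.mul_assoc,
        Matrix.mul_assoc c.Xm ((dm.Mb * tpow D.m d1.S).map c.f), tpow_map D.m d1.Mb c.f, ← Matrix.map_mul,
        Matrix.mul_assoc dm.Mb, ← tpow_mul, mub]
    intro b J
    exact congrFun (congrFun h b) J
  rel1 := fun u hu b => by
    have h := rel1' d1 c (fun j => c.α (G.t (u j))) (fun φ β hβ => by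
      have h1 := congrArg β hu
      rw [map_sum, map_zero] at h1
      rw [← h1]
      refine Finset.sum_congr rfl fun j _ => ?_
      rw [map_mul]
      congr 1
      exact (RingHom.congr_fun hβ (u j)).symm)
    have h2 : (c.X * d1.Mb.map c.f * (gi D).map c.α) *ᵥ (fun j => c.α (G.t (u j))) = 0 := by
      rw [Matrix.mul_assoc, ← Matrix.mulVec_mulVec, h, Matrix.mulVec_zero]
    exact congrFun h2 b
  relm := fun u hu b => by
    have h := relm' dm c (fun J => c.α (G.t (u J))) (fun φ β hβ => by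
      have h1 := congrArg β hu
      rw [map_sum, map_zero] at h1
      rw [← h1]
      refine Finset.sum_congr rfl fun j _ => ?_
      rw [map_mul]
      congr 1
      exact (RingHom.congr_fun hβ (u j)).symm)
    have h2 : (c.Xm * dm.Mb.map c.f * tpow D.m ((gi D).map c.α)) *ᵥ (fun J => c.α (G.t (u J))) = 0 := by
      rw [Matrix.mul_assoc, ← Matrix.mulVec_mulVec, h, Matrix.mulVec_zero]
    exact congrFun h2 b

end

end Groth.Agent.ResProp.EF.K737
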