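import Groth.Agent.ResProp.EF.K737.N2A
import Mathlib.LinearAlgebra.Matrix.Determinant.Basic
import Mathlib.LinearAlgebra.Matrix.Adjugate

/-!
# N2 (G1, team A): the value at the identity descends; the point over `x`
-/

set_option autoImplicit false
set_option linter.style.haveILetI false

open Groth.Agent.Grpsch.AffGrpd Groth.Agent.ResProp.EF.K412 TensorProduct Matrix

namespace Groth.Agent.ResProp.EF.K737

universe u

section EP

variable {R T : Type*} [CommRing R] [CommRing T] {ι : Type*} [Fintype ι] {r : ℕ}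

/-- Cauchy-Binet over all functions -/
theorem det_mul_functions (M : Matrix (Fin r) ι T) (S : Matrix ι (Fin r) T) :
    (M * S).det = ∑ I : Fin r → ι, (∏ l, S (I l) l) * (M.submatrix id I).det := by
  classical
  rw [← Matrix.det_transpose]
  have h1 : (M * S)ᵀ = fun l => ∑ j, S j l • Mᵀ j := by
    funext l b
    rw [Finset.sum_apply]
    simp only [Matrix.transpose_apply, Matrix.mul_apply, Pi.smul_apply, smul_eq_mul]
    exact Finset.sum_congr rfl fun j _ => mul_comm _ _
  rw [h1]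
  change Matrix.detRowAlternating (fun l => ∑ j, S j l • Mᵀ j) = _
  have h2 := (Matrix.detRowAlternating (n := Fin r) (R := T)).toMultilinearMap.map_sum
    (fun (l : Fin r) (j : ι) => S j l • Mᵀ j)
  refine h2.trans (Finset.sum_congr rfl fun I _ => ?_)
  have h3 := (Matrix.detRowAlternating (n := Fin r) (R := T)).toMultilinearMap.map_smul_univ
    (fun l => S (I l) l) (fun l => Mᵀ (I l))
  refine h3.trans ?_
  rw [smul_eq_mul]
  congr 1
  exact (Matrix.det_transpose (M.submatrix id I))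

/-- a functional that kills the kernel of `M` factors through `M` where `M` is surjective -/
theorem ep_descend (M : Matrix (Fin r) ι R) (ev : ι → R)
    (hk : ∀ v : ι → R, M *ᵥ v = 0 → ∑ j, ev j * v j = 0) (ψ : R →+* T) (S : Matrix ι (Fin r) T)
    (hS : M.map ψ * S = 1) : ∃ w : Fin r → T, ∀ j, ∑ b, w b * ψ (M b j) = ψ (ev j) := by
  classical
  have key : ∀ (I : Fin r → ι) (j : ι),
      ∑ b, (∑ l, ev (I l) * (M.submatrix id I).adjugate l b) * M b j = (M.submatrix id I).det * ev j := by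
    intro I j
    set N := M.submatrix id I with hN
    let v : ι → R := fun i => N.det * (if i = j then 1 else 0) - ∑ l, (if i = I l then (N.adjugate * M) l j else 0)
    have hv : M *ᵥ v = 0 := by
      funext b
      have h1 : ∑ i, M b i * (N.det * (if i = j then 1 else 0)) = N.det * M b j := by
        simp [mul_ite, mul_comm]
      have h2 : ∑ i, M b i * ∑ l, (if i = I l then (N.adjugate * M) l j else 0) = N.det * M b j := by
        simp only [Finset.mul_sum]
        rw [Finset.sum_comm]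
        have : ∀ l, ∑ i, M b i * (if i = I l then (N.adjugate * M) l j else 0) = N b l * (N.adjugate * M) l j := by
          intro l
          simp [mul_ite, hN]
        simp only [this]
        change (N * (N.adjugate * M)) b j = _
        rw [← Matrix.mul_assoc, Matrix.mul_adjugate, Matrix.smul_mul, Matrix.one_mul]
        rfl
      change ∑ i, M b i * (N.det * (if i = j then 1 else 0) - ∑ l, (if i = I l then (N.adjugate * M) l j else 0)) = 0
      simp only [mul_sub, Finset.sum_sub_distrib]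
      rw [h1, h2, sub_self]
    have h := hk v hv
    have h1 : ∑ i, ev i * (N.det * (if i = j then 1 else 0)) = N.det * ev j := by
      simp [mul_ite, mul_comm]
    have h2 : ∑ i, ev i * ∑ l, (if i = I l then (N.adjugate * M) l j else 0) =
        ∑ l, ev (I l) * (N.adjugate * M) l j := by
      simp only [Finset.mul_sum]
      rw [Finset.sum_comm]
      refine Finset.sum_congr rfl fun l _ => ?_
      simp [mul_ite]
    have h3 : N.det * ev j - ∑ l, ev (I l) * (N.adjugate * M) l j = 0 := by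
      rw [← h1, ← h2, ← Finset.sum_sub_distrib]
      refine Eq.trans (Finset.sum_congr rfl fun i _ => (mul_sub _ _ _).symm) h
    rw [sub_eq_zero] at h3
    rw [h3]
    simp only [Matrix.mul_apply, Finset.mul_sum, Finset.sum_mul]
    rw [Finset.sum_comm]
    exact Finset.sum_congr rfl fun l _ => Finset.sum_congr rfl fun b _ => mul_assoc _ _ _
  have hdet : ∑ I : Fin r → ι, (∏ l, S (I l) l) * ψ (M.submatrix id I).det = 1 := by
    have h := det_mul_functions (M.map ψ) S
    rw [hS, Matrix.det_one] at h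
    rw [h]
    refine Finset.sum_congr rfl fun I _ => ?_
    rw [RingHom.map_det]; rfl
  refine ⟨fun b => ∑ I : Fin r → ι, (∏ l, S (I l) l) * ψ (∑ l, ev (I l) * (M.submatrix id I).adjugate l b), fun j => ?_⟩
  have h4 : ∀ I : Fin r → ι, ∑ b, ψ (∑ l, ev (I l) * (M.submatrix id I).adjugate l b) * ψ (M b j) =
      ψ (M.submatrix id I).det * ψ (ev j) := by
    intro I
    rw [← map_mul, ← key I j, map_sum]
    exact Finset.sum_congr rfl fun b _ => (map_mul ψ _ _).symm
  calc ∑ b, (∑ I : Fin r → ι, (∏ l, S (I l) l) * ψ (∑ l, ev (I l) * (M.submatrix id I).adjugate l b)) * ψ (M b j)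
      = ∑ I : Fin r → ι, (∏ l, S (I l) l) * ∑ b, ψ (∑ l, ev (I l) * (M.submatrix id I).adjugate l b) * ψ (M b j) := by
        simp only [Finset.sum_mul, Finset.mul_sum]
        rw [Finset.sum_comm]
        exact Finset.sum_congr rfl fun I _ => Finset.sum_congr rfl fun b _ => mul_assoc _ _ _
    _ = (∑ I : Fin r → ι, (∏ l, S (I l) l) * ψ (M.submatrix id I).det) * ψ (ev j) := by
        rw [Finset.sum_mul]
        exact Finset.sum_congr rfl fun I _ => by rw [h4, mul_assoc]
    _ = ψ (ev j) := by rw [hdet, one_mul]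

end EP

variable {A B : Type u} [CommRing A] [CommRing B] {G : RGrpd A B} {k : Type u} [Field k] {x : A →+* k} {X : Src G x}
variable {Lb : Type u} [CommRing Lb] [Algebra Lb A] {D : Gen Lb G}
variable (d1 : RD k (fun j => X.j (D.c j))) (dm : RD k (fun J : Fin D.m → Fin D.n => X.j (mon D.c J)))

/-- `v(α) = w(α) Mb` -/
theorem row_of_lift {ι : Type*} [Fintype ι] (v : ι → B) (d : RD k (fun j => X.j (v j))) {T : Type u} [CommRing T]
    (f : k →+* T) (α : B →+* T) (h : α.comp G.s = f.comp x) :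
    ∃ w : Fin d.r → T, (fun i => α (v i)) = w ᵥ* d.Mb.map f := by
  obtain ⟨g, hg1, hg2⟩ := X.lift f α h
  refine ⟨fun b => g (d.w b), ?_⟩
  funext i
  have h1 : α (v i) = g (X.j (v i)) := (RingHom.congr_fun hg2 (v i)).symm
  rw [h1, d.hv i, map_sum]
  refine Finset.sum_congr rfl fun b _ => ?_
  rw [Algebra.smul_def, map_mul, mul_comm]
  congr 1
  exact RingHom.congr_fun hg1 _

/-- the value at the identity, on a cone -/
theorem ep1_cone {T : Type u} [CommRing T] (c : Cone G x d1.r dm.r T) :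
    ∃ w : Fin d1.r → T, w ᵥ* (c.pt d1 dm).M = fun j => (c.pt d1 dm).a (G.e (D.c j)) := by
  obtain ⟨w, hw⟩ := row_of_lift (fun j => D.c j) d1 c.f c.α c.h
  refine ⟨w ᵥ* c.Xi, ?_⟩
  have h1 : (w ᵥ* c.Xi) ᵥ* (c.pt d1 dm).M = (fun j => c.α (D.c j)) ᵥ* (gi D).map c.α := by
    change (w ᵥ* c.Xi) ᵥ* (c.X * d1.Mb.map c.f * (gi D).map c.α) = _
    rw [hw, Matrix.vecMul_vecMul, Matrix.vecMul_vecMul, Matrix.mul_assoc c.X, ← Matrix.mul_assoc c.Xi,
      mul_eq_one_comm.1 c.hX, Matrix.one_mul]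
  rw [h1]
  funext j
  have h2 := congrArg (fun z : B →+* T => z (D.c j)) (G.comp_i c.α)
  simp only [D.comp_c] at h2
  exact h2

theorem epm_cone {T : Type u} [CommRing T] (c : Cone G x d1.r dm.r T) :
    ∃ w : Fin dm.r → T, w ᵥ* (c.pt d1 dm).Mm = fun J => (c.pt d1 dm).a (G.e (mon D.c J)) := by
  obtain ⟨w, hw⟩ := row_of_lift (fun J => mon D.c J) dm c.f c.α c.h
  refine ⟨w ᵥ* c.Xmi, ?_⟩
  have h1 : (w ᵥ* c.Xmi) ᵥ* (c.pt d1 dm).Mm = (fun J => c.α (mon D.c J)) ᵥ* tpow D.m ((gi D).map c.α) := by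
    change (w ᵥ* c.Xmi) ᵥ* (c.Xm * dm.Mb.map c.f * tpow D.m ((gi D).map c.α)) = _
    rw [hw, Matrix.vecMul_vecMul, Matrix.vecMul_vecMul, Matrix.mul_assoc c.Xm, ← Matrix.mul_assoc c.Xmi,
      mul_eq_one_comm.1 c.hXm, Matrix.one_mul]
  rw [h1]
  have h0 : (fun J => c.α (mon D.c J)) = monv D.m (c.α ∘ D.c) := by funext J; exact map_mon D c.α J
  rw [h0, ← monv_vecMul]
  have h3 : (c.α ∘ D.c) ᵥ* (gi D).map c.α = (((c.α.comp G.t).comp G.e : B →+* T) : B → T) ∘ D.c := by
    funext j
    have h2 := congrArg (fun z : B →+* T => z (D.c j)) (G.comp_i c.α)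
    simp only [D.comp_c] at h2
    exact h2
  rw [h3]
  funext J
  exact (map_mon D ((c.α.comp G.t).comp G.e) J).symm

/-- **ep** : points of `RR` with surjective matrices are framed points -/
theorem isFr_of_surj {T : Type u} [CommRing T] (c : Cone G x d1.r dm.r T) {T' : Type u} [CommRing T']
    (ψ : RR (c.pt d1 dm) →+* T')
    (h1 : ∃ S : Matrix (Fin D.n) (Fin d1.r) T', ((RP (c.pt d1 dm)).map ψ).M * S = 1)
    (hm : ∃ S : Matrix (Fin D.m → Fin D.n) (Fin dm.r) T', ((RP (c.pt d1 dm)).map ψ).Mm * S = 1)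
    (hcl : IsFrC (RP (c.pt d1 dm))) : IsFr ((RP (c.pt d1 dm)).map ψ) := by
  obtain ⟨S, hS⟩ := h1
  obtain ⟨Sm, hSm⟩ := hm
  refine ⟨⟨fun b J => ?_, fun u hu b => ?_, fun u hu b => ?_⟩, ⟨S, hS⟩, ⟨Sm, hSm⟩, ?_, ?_⟩
  · have h := congrArg ψ (hcl.hmu b J)
    simp only [map_sum, map_mul, map_prod] at h
    exact h
  · have h := congrArg ψ (hcl.rel1 u hu b)
    simp only [map_sum, map_mul, map_zero] at h
    exact h
  · have h := congrArg ψ (hcl.relm u hu b)
    simp only [map_sum, map_mul, map_zero] at h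
    exact h
  · refine ep_descend (RP (c.pt d1 dm)).M (fun j => (RP (c.pt d1 dm)).a (G.e (D.c j))) (fun v hv => ?_) ψ S hS
    apply Rinc_injective (c.pt d1 dm)
    obtain ⟨w, hw⟩ := ep1_cone d1 dm c
    have hM : (RP (c.pt d1 dm)).M.map (Rinc (c.pt d1 dm)) = (c.pt d1 dm).M :=
      congrArg FrPt.M (RP_map_Rinc (c.pt d1 dm))
    have ha : (Rinc (c.pt d1 dm)).comp (RP (c.pt d1 dm)).a = (c.pt d1 dm).a :=
      congrArg FrPt.a (RP_map_Rinc (c.pt d1 dm))
    have hv' : (c.pt d1 dm).M *ᵥ (fun j => Rinc (c.pt d1 dm) (v j)) = 0 := by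
      rw [← hM]
      funext b
      have := congrArg (Rinc (c.pt d1 dm)) (congrFun hv b)
      simp only [Matrix.mulVec, dotProduct, map_sum, map_mul, Pi.zero_apply, map_zero] at this
      exact this
    rw [map_sum, map_zero]
    have h5 : ∑ j, (c.pt d1 dm).a (G.e (D.c j)) * Rinc (c.pt d1 dm) (v j) = 0 := by
      have h6 : (w ᵥ* (c.pt d1 dm).M) ⬝ᵥ (fun j => Rinc (c.pt d1 dm) (v j)) = 0 := by
        rw [← Matrix.dotProduct_mulVec, hv', dotProduct_zero]
      rw [hw] at h6
      exact h6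
    rw [← h5]
    refine Finset.sum_congr rfl fun j _ => ?_
    rw [map_mul, ← ha]; rfl
  · refine ep_descend (RP (c.pt d1 dm)).Mm (fun J => (RP (c.pt d1 dm)).a (G.e (mon D.c J))) (fun v hv => ?_) ψ Sm hSm
    apply Rinc_injective (c.pt d1 dm)
    obtain ⟨w, hw⟩ := epm_cone d1 dm c
    have hM : (RP (c.pt d1 dm)).Mm.map (Rinc (c.pt d1 dm)) = (c.pt d1 dm).Mm :=
      congrArg FrPt.Mm (RP_map_Rinc (c.pt d1 dm))
    have ha : (Rinc (c.pt d1 dm)).comp (RP (c.pt d1 dm)).a = (c.pt d1 dm).a :=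
      congrArg FrPt.a (RP_map_Rinc (c.pt d1 dm))
    have hv' : (c.pt d1 dm).Mm *ᵥ (fun J => Rinc (c.pt d1 dm) (v J)) = 0 := by
      rw [← hM]
      funext b
      have := congrArg (Rinc (c.pt d1 dm)) (congrFun hv b)
      simp only [Matrix.mulVec, dotProduct, map_sum, map_mul, Pi.zero_apply, map_zero] at this
      exact this
    rw [map_sum, map_zero]
    have h5 : ∑ J, (c.pt d1 dm).a (G.e (mon D.c J)) * Rinc (c.pt d1 dm) (v J) = 0 := by
      have h6 : (w ᵥ* (c.pt d1 dm).Mm) ⬝ᵥ (fun J => Rinc (c.pt d1 dm) (v J)) = 0 := by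
        rw [← Matrix.dotProduct_mulVec, hv', dotProduct_zero]
      rw [hw] at h6
      exact h6
    rw [← h5]
    refine Finset.sum_congr rfl fun J _ => ?_
    rw [map_mul, ← ha]; rfl

end Groth.Agent.ResProp.EF.K737
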