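import Groth.Agent.ResProp.EF.K737.N2B

/-!
# N2 (G1, team A): the point over `x`; assembly of `FrRing` from `act` and `gact`
-/

set_option autoImplicit false
set_option linter.style.haveILetI false

open Groth.Agent.Grpsch.AffGrpd Groth.Agent.ResProp.EF.K412 TensorProduct Matrix

namespace Groth.Agent.ResProp.EF.K737

universe u

variable {A B : Type u} [CommRing A] [CommRing B] {G : RGrpd A B} {k : Type u} [Field k] {x : A →+* k} {X : Src G x}
variable {Lb : Type u} [CommRing Lb] [Algebra Lb A] {D : Gen Lb G}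
variable (d1 : RD k (fun j => X.j (D.c j))) (dm : RD k (fun J : Fin D.m → Fin D.n => X.j (mon D.c J)))

/-- cone points commute with ring maps -/
theorem Cone.pt_map {T T' : Type u} [CommRing T] [CommRing T'] (φ : T →+* T') (c : Cone G x d1.r dm.r T) :
    (c.map φ).pt d1 dm = (c.pt d1 dm).map φ := by
  refine FrPt_ext rfl ?_ ?_ ?_
  · change c.X.map φ * d1.Mb.map (φ.comp c.f) * (gi D).map (φ.comp c.α) =
      (c.X * d1.Mb.map c.f * (gi D).map c.α).map φ
    rw [Matrix.map_mul, Matrix.map_mul, Matrix.map_map, Matrix.map_map]; rfl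
  · change c.Xm.map φ * dm.Mb.map (φ.comp c.f) * tpow D.m ((gi D).map (φ.comp c.α)) =
      (c.Xm * dm.Mb.map c.f * tpow D.m ((gi D).map c.α)).map φ
    rw [Matrix.map_mul, Matrix.map_mul, Matrix.map_map, ← tpow_map, Matrix.map_map]; rfl
  · change c.Xm.map φ * (dm.Mb * tpow D.m d1.S).map (φ.comp c.f) * tpow D.m (c.Xi.map φ) =
      (c.Xm * (dm.Mb * tpow D.m d1.S).map c.f * tpow D.m c.Xi).map φ
    generalize dm.Mb * tpow D.m d1.S = W
    rw [Matrix.map_mul, Matrix.map_mul, Matrix.map_map, ← tpow_map]; rfl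

/-- the cone at the identity of `x` -/
def cone0 (G : RGrpd A B) (x : A →+* k) (r1 rm : ℕ) : Cone G x r1 rm k where
  f := RingHom.id k
  α := x.comp G.e
  h := by rw [RingHom.comp_assoc, G.e_s, RingHom.comp_id, RingHom.id_comp]
  X := 1
  Xi := 1
  hX := one_mul 1
  Xm := 1
  Xmi := 1
  hXm := one_mul 1

theorem cone0_comp {r1 rm : ℕ} {T' : Type u} [CommRing T'] (φ : k →+* T') (δ : B →+* T')
    (h : δ.comp G.s = (φ.comp (cone0 G x r1 rm).f).comp x) :
    G.comp δ ((φ.comp (cone0 G x r1 rm).α).comp G.i) (cone_inv (cone0 G x r1 rm) φ δ h) = δ := by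
  have h1 : (φ.comp (cone0 G x r1 rm).α).comp G.i = (δ.comp G.s).comp G.e := by
    rw [h]
    change (φ.comp (x.comp G.e)).comp G.i = ((φ.comp (RingHom.id k)).comp x).comp G.e
    rw [RingHom.comp_id, RingHom.comp_assoc, RingHom.comp_assoc, e_comp_i, RingHom.comp_assoc]
  refine Eq.trans ?_ (G.comp_e δ)
  congr 1

variable {d1 dm}

theorem Mb_cone0 : d1.Mb.map (RingHom.id k) * (gi D).map (x.comp G.e) = d1.Mb := by
  classical
  ext b j
  have h := ind X (fun j => D.c j) d1 (RingHom.id k)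
    (fun i => (gi D).map (x.comp G.e) i j - (if i = j then 1 else 0)) (fun φ δ hδ => ?_) b
  · simp only [mul_sub, Finset.sum_sub_distrib, mul_ite, mul_one, mul_zero, Finset.sum_ite_eq', Finset.mem_univ,
      if_true] at h
    exact sub_eq_zero.1 h
  · have h1 := (hN1 D (cone0 G x 0 0) φ δ hδ).2 j
    rw [cone0_comp φ δ hδ] at h1
    simp only [map_sub, sub_mul, Finset.sum_sub_distrib]
    rw [sub_eq_zero]
    have h2 : ∑ i, φ (if i = j then 1 else 0) * δ (D.c i) = δ (D.c j) := by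
      simp [apply_ite φ, ite_mul]
    rw [h2]
    refine Eq.trans ?_ h1.symm
    exact Finset.sum_congr rfl fun i _ => mul_comm _ _

theorem Mbm_cone0 : dm.Mb.map (RingHom.id k) * tpow D.m ((gi D).map (x.comp G.e)) = dm.Mb := by
  classical
  ext b J
  have h := ind X (fun J => mon D.c J) dm (RingHom.id k)
    (fun I => tpow D.m ((gi D).map (x.comp G.e)) I J - (if I = J then 1 else 0)) (fun φ δ hδ => ?_) b
  · simp only [mul_sub, Finset.sum_sub_distrib, mul_ite, mul_one, mul_zero, Finset.sum_ite_eq', Finset.mem_univ,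
      if_true] at h
    exact sub_eq_zero.1 h
  · have h1 := hNm D (cone0 G x 0 0) φ δ hδ J
    rw [cone0_comp φ δ hδ] at h1
    simp only [map_sub, sub_mul, Finset.sum_sub_distrib]
    rw [sub_eq_zero]
    have h2 : ∑ I, φ (if I = J then 1 else 0) * δ (mon D.c I) = δ (mon D.c J) := by
      simp [apply_ite φ, ite_mul]
    rw [h2]
    refine Eq.trans ?_ h1.symm
    exact Finset.sum_congr rfl fun i _ => mul_comm _ _

/-- **pt** -/
theorem exists_pt (U : URing G x d1.r dm.r) : ∃ ψ : RR (U.c.pt d1 dm) →+* k, ψ.comp (RP (U.c.pt d1 dm)).a = x ∧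
    (∃ S : Matrix (Fin D.n) (Fin d1.r) k, ((RP (U.c.pt d1 dm)).map ψ).M * S = 1) ∧
    (∃ S : Matrix (Fin D.m → Fin D.n) (Fin dm.r) k, ((RP (U.c.pt d1 dm)).map ψ).Mm * S = 1) := by
  classical
  obtain ⟨φ, hφ⟩ := U.lift (cone0 G x d1.r dm.r)
  have h : (RP (U.c.pt d1 dm)).map (φ.comp (Rinc (U.c.pt d1 dm))) = (cone0 G x d1.r dm.r).pt d1 dm := by
    rw [← FrPt_map_map, RP_map_Rinc, ← Cone.pt_map, hφ]
  refine ⟨φ.comp (Rinc (U.c.pt d1 dm)), ?_, ?_, ?_⟩
  · refine (congrArg FrPt.a h).trans ?_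
    change (x.comp G.e).comp G.t = x
    rw [RingHom.comp_assoc, G.e_t, RingHom.comp_id]
  · rw [h]
    refine ⟨d1.S, ?_⟩
    change (1 : Matrix (Fin d1.r) (Fin d1.r) k) * d1.Mb.map (RingHom.id k) * (gi D).map (x.comp G.e) * d1.S = 1
    rw [Matrix.one_mul, Mb_cone0, RD.Mb_mul_S]
  · rw [h]
    refine ⟨dm.S, ?_⟩
    change (1 : Matrix (Fin dm.r) (Fin dm.r) k) * dm.Mb.map (RingHom.id k) * tpow D.m ((gi D).map (x.comp G.e)) * dm.S = 1
    rw [Matrix.one_mul, Mbm_cone0, RD.Mb_mul_S]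

variable (d1 dm)

/-- `act` for `RR` -/
def ActProp (U : URing G x d1.r dm.r) : Prop :=
  ∀ {T : Type u} [CommRing T] (ψ : RR (U.c.pt d1 dm) →+* T) (γ : B →+* T),
    γ.comp G.s = ψ.comp (RP (U.c.pt d1 dm)).a →
    ∃ ψ' : RR (U.c.pt d1 dm) →+* T, IsTrans γ ((RP (U.c.pt d1 dm)).map ψ) ((RP (U.c.pt d1 dm)).map ψ') ∧
      ThetaEq ((RP (U.c.pt d1 dm)).map ψ) ((RP (U.c.pt d1 dm)).map ψ')

/-- `gact` for `RR` -/
def GactProp (U : URing G x d1.r dm.r) : Prop :=
  ∀ {T : Type u} [CommRing T] (ψ : RR (U.c.pt d1 dm) →+* T) (Y : Matrix (Fin d1.r) (Fin d1.r) T)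
    (Ym : Matrix (Fin dm.r) (Fin dm.r) T), IsUnit Y → IsUnit Ym →
    ∃ ψ' : RR (U.c.pt d1 dm) →+* T, IsGTrans Y Ym ((RP (U.c.pt d1 dm)).map ψ) ((RP (U.c.pt d1 dm)).map ψ')

/-- the closed conditions hold over `RR` -/
theorem closed_RP {T : Type u} [CommRing T] (c : Cone G x d1.r dm.r T) : IsFrC (RP (c.pt d1 dm)) := by
  have h0 := RP_map_Rinc (c.pt d1 dm)
  have hc : IsFrC ((RP (c.pt d1 dm)).map (Rinc (c.pt d1 dm))) := by rw [h0]; exact closed_pt d1 dm c
  refine ⟨fun b J => ?_, fun u hu b => ?_, fun u hu b => ?_⟩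
  · apply Rinc_injective (c.pt d1 dm)
    have h := hc.hmu b J
    simp only [map_sum, map_mul, map_prod]
    exact h
  · apply Rinc_injective (c.pt d1 dm)
    have h := hc.rel1 u hu b
    simp only [map_sum, map_mul, map_zero]
    exact h
  · apply Rinc_injective (c.pt d1 dm)
    have h := hc.relm u hu b
    simp only [map_sum, map_mul, map_zero]
    exact h

/-- **assembly** -/
theorem frRing (U : URing G x d1.r dm.r) (hact : ActProp d1 dm U) (hgact : GactProp d1 dm U) : Nonempty (FrRing D x) :=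
  ⟨{  r1 := d1.r
      rm := dm.r
      R := RR (U.c.pt d1 dm)
      P := RP (U.c.pt d1 dm)
      gen := RP_gen (U.c.pt d1 dm)
      closed := closed_RP d1 dm U.c
      ep := fun ψ h1 hm => isFr_of_surj d1 dm U.c ψ h1 hm (closed_RP d1 dm U.c)
      act := fun ψ γ h => hact ψ γ h
      gact := fun ψ Y Ym h1 h2 => hgact ψ Y Ym h1 h2
      pt := exists_pt U }⟩

/-- N2 from `act` and `gact` -/
theorem N2_of (D : Gen Lb G)
    (h1 : G.s.Flat → ∀ {k : Type u} [Field k] {x : A →+* k} {X : Src G x} (d1 : RD k (fun j => X.j (D.c j)))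
      (dm : RD k (fun J : Fin D.m → Fin D.n => X.j (mon D.c J))) (U : URing G x d1.r dm.r), ActProp d1 dm U)
    (h2 : ∀ {k : Type u} [Field k] {x : A →+* k} {X : Src G x} (d1 : RD k (fun j => X.j (D.c j)))
      (dm : RD k (fun J : Fin D.m → Fin D.n => X.j (mon D.c J))) (U : URing G x d1.r dm.r), GactProp d1 dm U) : N2 D := by
  intro hfl k _ x
  obtain ⟨X⟩ := exists_Src G x
  obtain ⟨d1⟩ := exists_RD (k := k) (fun j => X.j (D.c j))
  obtain ⟨dm⟩ := exists_RD (k := k) (fun J : Fin D.m → Fin D.n => X.j (mon D.c J))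
  obtain ⟨U⟩ := exists_URing X d1.r dm.r
  exact frRing d1 dm U (h1 hfl d1 dm U) (h2 d1 dm U)

end Groth.Agent.ResProp.EF.K737
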