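import Mathlib.LinearAlgebra.Matrix.NonsingularInverse
import Mathlib.LinearAlgebra.Dimension.Finite
import Mathlib.LinearAlgebra.FiniteDimensional.Basic
import Mathlib.LinearAlgebra.Basis.VectorSpace
import Mathlib.RingTheory.MvPolynomial.Basic

/-!
# N2 (G1, team A): tensor powers of matrices, rank data of a finite family
-/

set_option autoImplicit false
set_option linter.style.haveILetI false

namespace Groth.Agent.ResProp.EF.K737

open Matrix

section Tpow

variable {R R' : Type*} [CommRing R] [CommRing R'] {ι κ ν : Type*}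

/-- the tensor power of a matrix -/
def tpow (m : ℕ) (N : Matrix ι κ R) : Matrix (Fin m → ι) (Fin m → κ) R :=
  fun I J => ∏ k, N (I k) (J k)

theorem tpow_apply (m : ℕ) (N : Matrix ι κ R) (I : Fin m → ι) (J : Fin m → κ) :
    tpow m N I J = ∏ k, N (I k) (J k) := rfl

theorem tpow_mul [Fintype κ] [DecidableEq κ] (m : ℕ) (N : Matrix ι κ R) (N' : Matrix κ ν R) :
    tpow m (N * N') = tpow m N * tpow m N' := by
  ext I J
  simp only [tpow_apply, Matrix.mul_apply]
  rw [Finset.prod_univ_sum]
  simp only [Fintype.piFinset_univ, Finset.prod_mul_distrib]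

theorem tpow_one [DecidableEq ι] (m : ℕ) : tpow m (1 : Matrix ι ι R) = 1 := by
  ext I J
  simp only [tpow_apply, Matrix.one_apply]
  by_cases h : I = J
  · subst h; simp
  · rw [if_neg h]
    obtain ⟨k, hk⟩ := Function.ne_iff.1 h
    exact Finset.prod_eq_zero (Finset.mem_univ k) (if_neg hk)

theorem tpow_map (m : ℕ) (N : Matrix ι κ R) (f : R →+* R') :
    tpow m (N.map f) = (tpow m N).map f := by
  ext I J
  simp [tpow_apply, map_prod]

/-- monomials in a row vector -/
def monv (m : ℕ) (c : ι → R) : (Fin m → ι) → R := fun J => ∏ k, c (J k)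

theorem monv_vecMul [Fintype ι] [DecidableEq ι] (m : ℕ) (c : ι → R) (N : Matrix ι κ R) :
    monv m (c ᵥ* N) = monv m c ᵥ* tpow m N := by
  ext J
  simp only [monv, Matrix.vecMul, dotProduct, tpow_apply]
  rw [Finset.prod_univ_sum]
  simp only [Fintype.piFinset_univ, Finset.prod_mul_distrib]

theorem monv_map (m : ℕ) (c : ι → R) (f : R →+* R') : monv m (f ∘ c) = f ∘ monv m c := by
  ext J
  simp [monv, map_prod]

end Tpow

section Rank

/-- **rank datum** of a finite family `v` in a vector space: a basis `w` of the span with extended coordinates `l` -/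
structure RD (k : Type*) [Field k] {E : Type*} [AddCommGroup E] [Module k E] {ι : Type*} [Fintype ι] (v : ι → E) where
  r : ℕ
  l : Fin r → E →ₗ[k] k
  w : Fin r → E
  S : Matrix ι (Fin r) k
  hv : ∀ j, v j = ∑ b, l b (v j) • w b
  hw : ∀ b, w b = ∑ j, S j b • v j
  hlw : ∀ b b', l b (w b') = (1 : Matrix (Fin r) (Fin r) k) b b'

variable {k : Type*} [Field k] {E : Type*} [AddCommGroup E] [Module k E] {ι : Type*} [Fintype ι] (v : ι → E)

theorem exists_RD : Nonempty (RD k v) := by
  classical
  let W := Submodule.span k (Set.range v)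
  haveI : FiniteDimensional k W := FiniteDimensional.span_of_finite k (Set.finite_range v)
  let b := Module.finBasis k W
  have hl : ∀ i, ∃ l : E →ₗ[k] k, l ∘ₗ W.subtype = b.coord i := fun i => LinearMap.exists_extend (b.coord i)
  choose l hl using hl
  have hS : ∀ i, ∃ c : ι → k, ∑ j, c j • v j = (b i : E) := fun i =>
    (Submodule.mem_span_range_iff_exists_fun k).1 (b i).2
  choose S hS using hS
  have hl' : ∀ i (y : W), l i (y : E) = b.repr y i := fun i y => LinearMap.congr_fun (hl i) y
  refine ⟨⟨Module.finrank k W, l, fun i => (b i : E), fun j i => S i j, fun j => ?_, fun i => (hS i).symm, fun i i' => ?_⟩⟩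
  · have hj : v j ∈ W := Submodule.subset_span ⟨j, rfl⟩
    have h := congrArg (W.subtype) (b.sum_repr ⟨v j, hj⟩)
    simp only [map_sum, map_smul, Submodule.subtype_apply] at h
    rw [← h]
    refine Finset.sum_congr rfl fun i _ => ?_
    rw [h, ← hl' i ⟨v j, hj⟩]
  · rw [hl', b.repr_self, Matrix.one_apply, Finsupp.single_apply]
    by_cases h : i = i'
    · subst h; simp
    · rw [if_neg h, if_neg (Ne.symm h)]

variable {v}

/-- the coordinate matrix -/
def RD.Mb (d : RD k v) : Matrix (Fin d.r) ι k := fun b j => d.l b (v j)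

theorem RD.Mb_mul_S [DecidableEq ι] (d : RD k v) : d.Mb * d.S = 1 := by
  ext b b'
  rw [← d.hlw b b', d.hw b', map_sum, Matrix.mul_apply]
  refine Finset.sum_congr rfl fun j _ => ?_
  rw [map_smul, smul_eq_mul, RD.Mb, mul_comm]

end Rank

end Groth.Agent.ResProp.EF.K737
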