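import Groth.Agent.ResProp.EF.K412.Defs
import Groth.Agent.ResProp.EF.K737.Tpow
import Mathlib.RingTheory.TensorProduct.Basic
import Mathlib.RingTheory.Ideal.Quotient.Operations

/-!
# N2 (G1, team A): the cone points and the coordinate ring `R` of the frames on the closure of one point

`Src G x` : the ring `E = k (x)_(A,s) B` of arrows with source `x`.  `Cone T` : an arrow over `T` with source `x` and invertible
matrices `X`, `Xm`; `Cone.pt` : the framed point (at the target of the arrow) it defines.  `URing` : a universal cone.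
`FR` : the ring representing all `FrPt`; `RR` : its image in the universal ring.
-/

set_option autoImplicit false
set_option linter.style.haveILetI false

open Groth.Agent.Grpsch.AffGrpd Groth.Agent.ResProp.EF.K412 TensorProduct Matrix

namespace Groth.Agent.ResProp.EF.K737

universe u

variable {A B : Type u} [CommRing A] [CommRing B]

/-- arrows with source `x` -/
structure Src (G : RGrpd A B) {k : Type u} [Field k] (x : A →+* k) where
  E : Type u
  [cr : CommRing E]
  [alg : Algebra k E]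
  j : B →+* E
  hj : j.comp G.s = (algebraMap k E).comp x
  lift : ∀ {T : Type u} [CommRing T] (f : k →+* T) (α : B →+* T), α.comp G.s = f.comp x →
    ∃ g : E →+* T, g.comp (algebraMap k E) = f ∧ g.comp j = α

attribute [instance] Src.cr Src.alg

theorem exists_Src (G : RGrpd A B) {k : Type u} [Field k] (x : A →+* k) : Nonempty (Src G x) := by
  letI := x.toAlgebra
  letI := G.s.toAlgebra
  refine ⟨⟨k ⊗[A] B, (Algebra.TensorProduct.includeRight : B →ₐ[A] k ⊗[A] B).toRingHom, ?_, ?_⟩⟩
  · ext a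
    change (Algebra.TensorProduct.includeRight : B →ₐ[A] k ⊗[A] B) (algebraMap A B a) =
      algebraMap k (k ⊗[A] B) (algebraMap A k a)
    rw [AlgHom.commutes, ← IsScalarTower.algebraMap_apply]
  · intro T _ f α h
    letI := f.toAlgebra
    letI : Algebra A T := (f.comp x).toAlgebra
    haveI : IsScalarTower A k T := IsScalarTower.of_algebraMap_eq' rfl
    let α' : B →ₐ[A] T := { α with commutes' := fun a => RingHom.congr_fun h a }
    let g : k ⊗[A] B →ₐ[k] T := Algebra.TensorProduct.lift (Algebra.ofId k T) α' (fun _ _ => Commute.all _ _)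
    refine ⟨g.toRingHom, ?_, ?_⟩
    · exact g.comp_algebraMap
    · ext b
      change g ((1 : k) ⊗ₜ[A] b) = α b
      rw [Algebra.TensorProduct.lift_tmul, map_one, one_mul]
      rfl

variable {G : RGrpd A B} {k : Type u} [Field k] {x : A →+* k} (X : Src G x)

/-- a relation between the `v j` on all arrows with source `x` is killed by the coordinate matrix -/
theorem ind {ι : Type*} [Fintype ι] (v : ι → B) (d : RD k (fun j => X.j (v j))) {T : Type u} [CommRing T] (f : k →+* T)
    (y : ι → T)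
    (H : ∀ {T' : Type u} [CommRing T'] (φ : T →+* T') (δ : B →+* T'), δ.comp G.s = (φ.comp f).comp x →
      ∑ j, φ (y j) * δ (v j) = 0) (b : Fin d.r) :
    ∑ j, f (d.Mb b j) * y j = 0 := by
  letI := f.toAlgebra
  let φ : T →+* T ⊗[k] X.E := (Algebra.TensorProduct.includeLeft : T →ₐ[k] T ⊗[k] X.E).toRingHom
  let ρ : X.E →+* T ⊗[k] X.E := (Algebra.TensorProduct.includeRight : X.E →ₐ[k] T ⊗[k] X.E).toRingHom
  have hφ : φ.comp f = ρ.comp (algebraMap k X.E) := by
    ext a
    change (Algebra.TensorProduct.includeLeft : T →ₐ[k] T ⊗[k] X.E) (algebraMap k T a) =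
      (Algebra.TensorProduct.includeRight : X.E →ₐ[k] T ⊗[k] X.E) (algebraMap k X.E a)
    rw [AlgHom.commutes, AlgHom.commutes]
  have h := H φ (ρ.comp X.j) (by rw [RingHom.comp_assoc, X.hj, hφ, RingHom.comp_assoc])
  let Λ : T ⊗[k] X.E →ₗ[k] T :=
    TensorProduct.lift ((LinearMap.mul k T).compl₂ ((Algebra.linearMap k T) ∘ₗ d.l b))
  have hΛ : ∀ j, Λ (φ (y j) * (ρ.comp X.j) (v j)) = f (d.Mb b j) * y j := fun j => by
    have : φ (y j) * (ρ.comp X.j) (v j) = y j ⊗ₜ[k] X.j (v j) := by
      change (y j ⊗ₜ[k] (1 : X.E)) * ((1 : T) ⊗ₜ[k] X.j (v j)) = _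
      rw [Algebra.TensorProduct.tmul_mul_tmul, mul_one, one_mul]
    rw [this]
    change y j * f (d.l b (X.j (v j))) = _
    rw [mul_comm]; rfl
  have h2 := congrArg Λ h
  rw [map_sum, map_zero] at h2
  rw [← h2]
  exact Finset.sum_congr rfl fun j _ => (hΛ j).symm

variable {Lb : Type u} [CommRing Lb] [Algebra Lb A] (D : Gen Lb G)

/-- an arrow with source `x` and two invertible matrices -/
@[ext] structure Cone (G : RGrpd A B) (x : A →+* k) (r1 rm : ℕ) (T : Type u) [CommRing T] where
  f : k →+* T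
  α : B →+* T
  h : α.comp G.s = f.comp x
  X : Matrix (Fin r1) (Fin r1) T
  Xi : Matrix (Fin r1) (Fin r1) T
  hX : X * Xi = 1
  Xm : Matrix (Fin rm) (Fin rm) T
  Xmi : Matrix (Fin rm) (Fin rm) T
  hXm : Xm * Xmi = 1

/-- image of a cone under a ring map -/
def Cone.map {r1 rm : ℕ} {T T' : Type u} [CommRing T] [CommRing T'] (φ : T →+* T') (c : Cone G x r1 rm T) :
    Cone G x r1 rm T' where
  f := φ.comp c.f
  α := φ.comp c.α
  h := by rw [RingHom.comp_assoc, c.h, RingHom.comp_assoc]
  X := c.X.map φ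
  Xi := c.Xi.map φ
  hX := by rw [← Matrix.map_mul, c.hX, Matrix.map_one _ (map_zero φ) (map_one φ)]
  Xm := c.Xm.map φ
  Xmi := c.Xmi.map φ
  hXm := by rw [← Matrix.map_mul, c.hXm, Matrix.map_one _ (map_zero φ) (map_one φ)]

/-- the matrix `i(g)` -/
def gi : Matrix (Fin D.n) (Fin D.n) B := D.g.map G.i

variable {X}

variable {D} in
/-- the framed point of a cone -/
def Cone.pt (d1 : RD k (fun j => X.j (D.c j))) (dm : RD k (fun J : Fin D.m → Fin D.n => X.j (mon D.c J)))
    {T : Type u} [CommRing T] (c : Cone G x d1.r dm.r T) : FrPt D d1.r dm.r T where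
  a := c.α.comp G.t
  M := c.X * d1.Mb.map c.f * (gi D).map c.α
  Mm := c.Xm * dm.Mb.map c.f * tpow D.m ((gi D).map c.α)
  mu := c.Xm * (dm.Mb * tpow D.m d1.S).map c.f * tpow D.m c.Xi

/-- a universal cone -/
structure URing (G : RGrpd A B) (x : A →+* k) (r1 rm : ℕ) where
  L : Type u
  [cr : CommRing L]
  c : Cone G x r1 rm L
  lift : ∀ {T : Type u} [CommRing T] (c' : Cone G x r1 rm T), ∃ φ : L →+* T, c.map φ = c'

attribute [instance] URing.cr

/-- matrices with prescribed entries -/
abbrev UVar (r1 rm : ℕ) : Type := (Fin r1 × Fin r1) ⊕ (Fin r1 × Fin r1) ⊕ (Fin rm × Fin rm) ⊕ (Fin rm × Fin rm)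

theorem exists_URing (X : Src G x) (r1 rm : ℕ) : Nonempty (URing G x r1 rm) := by
  classical
  let P := MvPolynomial (UVar r1 rm) X.E
  let Y : Matrix (Fin r1) (Fin r1) P := fun a b => MvPolynomial.X (Sum.inl (a, b))
  let Yi : Matrix (Fin r1) (Fin r1) P := fun a b => MvPolynomial.X (Sum.inr (Sum.inl (a, b)))
  let Ym : Matrix (Fin rm) (Fin rm) P := fun a b => MvPolynomial.X (Sum.inr (Sum.inr (Sum.inl (a, b))))
  let Ymi : Matrix (Fin rm) (Fin rm) P := fun a b => MvPolynomial.X (Sum.inr (Sum.inr (Sum.inr (a, b))))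
  let J : Ideal P := Ideal.span (Set.range (fun z : Fin r1 × Fin r1 => (Y * Yi - 1) z.1 z.2) ∪
    Set.range (fun z : Fin rm × Fin rm => (Ym * Ymi - 1) z.1 z.2))
  let q : P →+* P ⧸ J := Ideal.Quotient.mk J
  let j : X.E →+* P ⧸ J := q.comp (MvPolynomial.C : X.E →+* P)
  have h1 : Y.map q * Yi.map q = 1 := by
    rw [← Matrix.map_mul, ← sub_eq_zero, ← Matrix.map_one _ (map_zero q) (map_one q), ← Matrix.map_sub _ (map_sub q)]
    ext a b
    exact Ideal.Quotient.eq_zero_iff_mem.2 (Ideal.subset_span (Or.inl ⟨(a, b), rfl⟩))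
  have h2 : Ym.map q * Ymi.map q = 1 := by
    rw [← Matrix.map_mul, ← sub_eq_zero, ← Matrix.map_one _ (map_zero q) (map_one q), ← Matrix.map_sub _ (map_sub q)]
    ext a b
    exact Ideal.Quotient.eq_zero_iff_mem.2 (Ideal.subset_span (Or.inr ⟨(a, b), rfl⟩))
  refine ⟨⟨P ⧸ J, ⟨j.comp (algebraMap k X.E), j.comp X.j, ?_, Y.map q, Yi.map q, h1, Ym.map q, Ymi.map q, h2⟩, ?_⟩⟩
  · exact congrArg (fun z => j.comp z) X.hj
  · intro T _ c
    obtain ⟨g, hg1, hg2⟩ := X.lift c.f c.α c.h
    let v : UVar r1 rm → T := Sum.elim (fun z => c.X z.1 z.2) (Sum.elim (fun z => c.Xi z.1 z.2)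
      (Sum.elim (fun z => c.Xm z.1 z.2) (fun z => c.Xmi z.1 z.2)))
    let Φ : P →+* T := MvPolynomial.eval₂Hom g v
    have hY : Y.map Φ = c.X := by ext a b; exact MvPolynomial.eval₂Hom_X' g v _
    have hYi : Yi.map Φ = c.Xi := by ext a b; exact MvPolynomial.eval₂Hom_X' g v _
    have hYm : Ym.map Φ = c.Xm := by ext a b; exact MvPolynomial.eval₂Hom_X' g v _
    have hYmi : Ymi.map Φ = c.Xmi := by ext a b; exact MvPolynomial.eval₂Hom_X' g v _
    have hJ : ∀ z ∈ J, Φ z = 0 := by
      intro z hz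
      have hle : J ≤ RingHom.ker Φ := by
        refine Ideal.span_le.2 ?_
        rintro _ (⟨⟨a, b⟩, rfl⟩ | ⟨⟨a, b⟩, rfl⟩)
        · have : (Y * Yi - 1).map Φ = 0 := by
            rw [Matrix.map_sub _ (map_sub Φ), Matrix.map_mul, hY, hYi, c.hX,
              Matrix.map_one _ (map_zero Φ) (map_one Φ), sub_self]
          exact congrFun (congrFun this a) b
        · have : (Ym * Ymi - 1).map Φ = 0 := by
            rw [Matrix.map_sub _ (map_sub Φ), Matrix.map_mul, hYm, hYmi, c.hXm,
              Matrix.map_one _ (map_zero Φ) (map_one Φ), sub_self]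
          exact congrFun (congrFun this a) b
      exact hle hz
    let φ : P ⧸ J →+* T := Ideal.Quotient.lift J Φ hJ
    have hφ : φ.comp q = Φ := by ext z <;> rfl
    have hφj : φ.comp j = g := by
      rw [← RingHom.comp_assoc, hφ]
      ext z
      exact MvPolynomial.eval₂Hom_C g v z
    have hm : ∀ {n : ℕ} (N : Matrix (Fin n) (Fin n) P), (N.map q).map φ = N.map Φ := fun N => by
      rw [Matrix.map_map]; rfl
    refine ⟨φ, ?_⟩
    ext1
    · change φ.comp (j.comp (algebraMap k X.E)) = c.f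
      rw [← RingHom.comp_assoc, hφj, hg1]
    · change φ.comp (j.comp X.j) = c.α
      rw [← RingHom.comp_assoc, hφj, hg2]
    · exact (hm Y).trans hY
    · exact (hm Yi).trans hYi
    · exact (hm Ym).trans hYm
    · exact (hm Ymi).trans hYmi

section FR

variable (r1 rm : ℕ)

/-- the variables of `FR` -/
abbrev FVar : Type := (Fin r1 × Fin D.n) ⊕ (Fin rm × (Fin D.m → Fin D.n)) ⊕ (Fin rm × (Fin D.m → Fin r1))

/-- the ring representing `FrPt D r1 rm` -/
abbrev FR : Type u := MvPolynomial (FVar D r1 rm) A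

/-- the universal `FrPt` -/
noncomputable def FP : FrPt D r1 rm (FR D r1 rm) where
  a := MvPolynomial.C
  M := fun b j => MvPolynomial.X (Sum.inl (b, j))
  Mm := fun b J => MvPolynomial.X (Sum.inr (Sum.inl (b, J)))
  mu := fun b J => MvPolynomial.X (Sum.inr (Sum.inr (b, J)))

variable {D r1 rm}

/-- evaluation -/
noncomputable def evF {T : Type u} [CommRing T] (P : FrPt D r1 rm T) : FR D r1 rm →+* T :=
  MvPolynomial.eval₂Hom P.a (Sum.elim (fun z => P.M z.1 z.2) (Sum.elim (fun z => P.Mm z.1 z.2) (fun z => P.mu z.1 z.2)))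

theorem FrPt_ext {T : Type u} [CommRing T] {P P' : FrPt D r1 rm T} (h1 : P.a = P'.a) (h2 : P.M = P'.M)
    (h3 : P.Mm = P'.Mm) (h4 : P.mu = P'.mu) : P = P' := by
  cases P; cases P'; cases h1; cases h2; cases h3; cases h4; rfl

theorem FP_map_evF {T : Type u} [CommRing T] (P : FrPt D r1 rm T) : (FP D r1 rm).map (evF P) = P := by
  refine FrPt_ext ?_ ?_ ?_ ?_
  · ext a; exact MvPolynomial.eval₂Hom_C _ _ a
  · ext b j; exact MvPolynomial.eval₂Hom_X' _ _ _
  · ext b j; exact MvPolynomial.eval₂Hom_X' _ _ _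
  · ext b j; exact MvPolynomial.eval₂Hom_X' _ _ _

theorem FR_hom_ext {T : Type u} [CommRing T] {φ φ' : FR D r1 rm →+* T} (h : (FP D r1 rm).map φ = (FP D r1 rm).map φ') :
    φ = φ' := by
  have ha := congrArg FrPt.a h
  have hM := congrArg FrPt.M h
  have hMm := congrArg FrPt.Mm h
  have hmu := congrArg FrPt.mu h
  refine MvPolynomial.ringHom_ext (fun a => RingHom.congr_fun ha a) ?_
  rintro (⟨b, j⟩ | ⟨b, j⟩ | ⟨b, j⟩)
  · exact congrFun (congrFun hM b) j
  · exact congrFun (congrFun hMm b) j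
  · exact congrFun (congrFun hmu b) j

theorem FrPt_map_map {T T' T'' : Type u} [CommRing T] [CommRing T'] [CommRing T''] (φ : T →+* T') (φ' : T' →+* T'')
    (P : FrPt D r1 rm T) : (P.map φ).map φ' = P.map (φ'.comp φ) := rfl

theorem evF_map {T T' : Type u} [CommRing T] [CommRing T'] (φ : T →+* T') (P : FrPt D r1 rm T) :
    evF (P.map φ) = φ.comp (evF P) := by
  refine FR_hom_ext ?_
  rw [FP_map_evF, ← FrPt_map_map, FP_map_evF]

/-- **the coordinate ring**: the image of `FR` in `T` -/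
abbrev RR {T : Type u} [CommRing T] (P : FrPt D r1 rm T) : Type u := FR D r1 rm ⧸ RingHom.ker (evF P)

/-- the point over `RR P` -/
noncomputable def RP {T : Type u} [CommRing T] (P : FrPt D r1 rm T) : FrPt D r1 rm (RR P) :=
  (FP D r1 rm).map (Ideal.Quotient.mk _)

/-- `RR P` is a subring of `T` -/
noncomputable def Rinc {T : Type u} [CommRing T] (P : FrPt D r1 rm T) : RR P →+* T := RingHom.kerLift (evF P)

theorem Rinc_injective {T : Type u} [CommRing T] (P : FrPt D r1 rm T) : Function.Injective (Rinc P) :=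
  RingHom.kerLift_injective (evF P)

theorem RP_map_Rinc {T : Type u} [CommRing T] (P : FrPt D r1 rm T) : (RP P).map (Rinc P) = P := by
  rw [RP, FrPt_map_map]
  have : (Rinc P).comp (Ideal.Quotient.mk (RingHom.ker (evF P))) = evF P := by ext <;> rfl
  rw [this, FP_map_evF]

/-- points of `RR P` -/
theorem exists_RR {T : Type u} [CommRing T] (P : FrPt D r1 rm T) {T' : Type u} [CommRing T'] (P' : FrPt D r1 rm T')
    (h : ∀ z, evF P z = 0 → evF P' z = 0) : ∃ ψ : RR P →+* T', (RP P).map ψ = P' := by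
  refine ⟨Ideal.Quotient.lift _ (evF P') (fun z hz => h z hz), ?_⟩
  rw [RP, FrPt_map_map]
  have : (Ideal.Quotient.lift (RingHom.ker (evF P)) (evF P') (fun z hz => h z hz)).comp
      (Ideal.Quotient.mk (RingHom.ker (evF P))) = evF P' := by ext <;> rfl
  rw [this, FP_map_evF]

/-- points of `RR P` after an injective extension -/
theorem exists_RR_of_injective {T : Type u} [CommRing T] (P : FrPt D r1 rm T) {U U' : Type u} [CommRing U] [CommRing U']
    (j : U →+* U') (hj : Function.Injective j) (P' : FrPt D r1 rm U) (φ : T →+* U') (h : P'.map j = P.map φ) :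
    ∃ ψ : RR P →+* U, (RP P).map ψ = P' := by
  refine exists_RR P P' fun z hz => hj ?_
  have h1 := RingHom.congr_fun (evF_map j P') z
  have h2 := RingHom.congr_fun (evF_map φ P) z
  rw [h] at h1
  rw [map_zero]
  change j (evF P' z) = 0
  have h3 : j (evF P' z) = φ (evF P z) := h1.symm.trans h2
  rw [h3, hz, map_zero]

theorem RP_gen {T : Type u} [CommRing T] (P : FrPt D r1 rm T) :
    Subring.closure (Set.range (RP P).a ∪ Set.range (fun z : Fin r1 × Fin D.n => (RP P).M z.1 z.2) ∪
    Set.range (fun z : Fin rm × (Fin D.m → Fin D.n) => (RP P).Mm z.1 z.2) ∪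
    Set.range (fun z : Fin rm × (Fin D.m → Fin r1) => (RP P).mu z.1 z.2)) = ⊤ := by
  rw [eq_top_iff]
  rintro z -
  obtain ⟨z, rfl⟩ := Ideal.Quotient.mk_surjective z
  set S := Subring.closure (Set.range (RP P).a ∪ Set.range (fun z : Fin r1 × Fin D.n => (RP P).M z.1 z.2) ∪
    Set.range (fun z : Fin rm × (Fin D.m → Fin D.n) => (RP P).Mm z.1 z.2) ∪
    Set.range (fun z : Fin rm × (Fin D.m → Fin r1) => (RP P).mu z.1 z.2)) with hS
  induction z using MvPolynomial.induction_on with
  | C a => exact Subring.subset_closure (Or.inl (Or.inl (Or.inl ⟨a, rfl⟩)))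
  | add p q hp hq => rw [map_add]; exact add_mem hp hq
  | mul_X p i hp =>
    rw [map_mul]
    refine mul_mem hp ?_
    rcases i with ⟨b, j⟩ | ⟨b, j⟩ | ⟨b, j⟩
    · exact Subring.subset_closure (Or.inl (Or.inl (Or.inr ⟨(b, j), rfl⟩)))
    · exact Subring.subset_closure (Or.inl (Or.inr ⟨(b, j), rfl⟩))
    · exact Subring.subset_closure (Or.inr ⟨(b, j), rfl⟩)

end FR

end Groth.Agent.ResProp.EF.K737
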